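import Groth.Agent.H53.UnivInj.SepAmalgam
import Groth.Agent.H50.FieldPts
import Groth.Agent.H7.EtaleNbhdResidue
import Groth.Agent.H53.Points

/-! Universal injectivity from etale-local injectivity: the core argument over a scheme base. -/

set_option autoImplicit false
universe u

open CategoryTheory CategoryTheory.Limits AlgebraicGeometry Opposite
open AlgSp

namespace Groth.Agent.H53.UnivInj

variable {S : Scheme.{u}}

/-- The residue field point of a scheme over `S`, as a morphism over `S`. -/
noncomputable def resPt (U : Over S) (u : ↥U.left) :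
    Over.mk (U.left.fromSpecResidueField u ≫ U.hom) ⟶ U :=
  Over.homMk (U.left.fromSpecResidueField u) rfl

theorem core {X : Sp S} (hX : IsAlgSpace X) {V U₀ : Over S} (f : X ⟶ (yon S).obj V)
    (hinj : ∀ (V' : Over S) (g : V' ⟶ V), Etale g.left → ∀ (P : Sp S) (fst : P ⟶ X)
      (snd : P ⟶ (yon S).obj V'), IsPullback fst snd f ((yon S).map g) →
        Function.Injective (Points.map snd))
    (c : (yon S).obj U₀ ⟶ X) (h : U₀ ⟶ V) (hc : c ≫ f = (yon S).map h)
    (u : ↥U₀.left) (hfin : (h.left.residueFieldMap u).hom.Finite)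
    {K : Type u} [Field K] (str : Spec (.of K) ⟶ S)
    (p p' : Over.mk str ⟶ Over.mk (U₀.left.fromSpecResidueField u ≫ U₀.hom))
    (hpp' : p ≫ resPt U₀ u ≫ h = p' ≫ resPt U₀ u ≫ h) :
    (yon S).map (p ≫ resPt U₀ u) ≫ c = (yon S).map (p' ≫ resPt U₀ u) ≫ c := by
  -- ring homomorphisms
  let ρ : V.left.residueField (h.left u) ⟶ U₀.left.residueField u := h.left.residueFieldMap u
  let φc : U₀.left.residueField u ⟶ .of K := Spec.preimage p.left
  let φc' : U₀.left.residueField u ⟶ .of K := Spec.preimage p'.left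
  have hφ : Spec.map φc = p.left := Spec.map_preimage _
  have hφ' : Spec.map φc' = p'.left := Spec.map_preimage _
  have hpl : p.left ≫ U₀.left.fromSpecResidueField u ≫ h.left =
      p'.left ≫ U₀.left.fromSpecResidueField u ≫ h.left := congrArg (fun t => t.left) hpp'
  have hρ : ρ ≫ φc = ρ ≫ φc' := by
    apply Spec.map_injective
    rw [Spec.map_comp, Spec.map_comp, hφ, hφ',
      ← cancel_mono (V.left.fromSpecResidueField (h.left u))]
    simp only [Category.assoc, ρ, Scheme.Hom.SpecMap_residueFieldMap_fromSpecResidueField]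
    exact hpl
  -- algebra structures
  let _ : Algebra (V.left.residueField (h.left u)) (U₀.left.residueField u) := ρ.hom.toAlgebra
  have hfinE : Module.Finite (V.left.residueField (h.left u)) (U₀.left.residueField u) := hfin
  let _ : Algebra (V.left.residueField (h.left u)) K := (φc.hom.comp ρ.hom).toAlgebra
  let φ : U₀.left.residueField u →ₐ[V.left.residueField (h.left u)] K :=
    { φc.hom with commutes' := fun _ => rfl }
  have hρx : ∀ x, φc'.hom (ρ.hom x) = φc.hom (ρ.hom x) := fun x => by
    have := congrArg (fun t => t.hom x) hρ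
    exact this.symm
  let φ' : U₀.left.residueField u →ₐ[V.left.residueField (h.left u)] K :=
    { φc'.hom with commutes' := fun x => hρx x }
  let Es := separableClosure (V.left.residueField (h.left u)) (U₀.left.residueField u)
  let L : IntermediateField (V.left.residueField (h.left u)) K := Es.map φ ⊔ Es.map φ'
  have hs1 : Algebra.IsSeparable (V.left.residueField (h.left u)) (Es.map φ) :=
    AlgEquiv.Algebra.isSeparable (IntermediateField.equivMap Es φ)
  have hs2 : Algebra.IsSeparable (V.left.residueField (h.left u)) (Es.map φ') :=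
    AlgEquiv.Algebra.isSeparable (IntermediateField.equivMap Es φ')
  have hf1 : FiniteDimensional (V.left.residueField (h.left u)) (Es.map φ) :=
    (IntermediateField.equivMap Es φ).toLinearEquiv.finiteDimensional
  have hf2 : FiniteDimensional (V.left.residueField (h.left u)) (Es.map φ') :=
    (IntermediateField.equivMap Es φ').toLinearEquiv.finiteDimensional
  have hfL : FiniteDimensional (V.left.residueField (h.left u)) L :=
    IntermediateField.finiteDimensional_sup _ _
  have hsL : Algebra.IsSeparable (V.left.residueField (h.left u)) L :=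
    inferInstance
  obtain ⟨V'₀, g₀, t, hV'aff, hg₀, ht, htg⟩ :=
    Groth.Agent.H7.exists_etale_nbhd_Spec_field V.left (h.left u) L
  -- the key identity
  have hkey : Spec.map (CommRingCat.ofHom (algebraMap L K)) ≫ t ≫ g₀ =
      p.left ≫ U₀.left.fromSpecResidueField u ≫ h.left := by
    rw [htg, ← Spec.map_comp_assoc, ← hφ]
    rw [← Scheme.Hom.SpecMap_residueFieldMap_fromSpecResidueField h.left u]
    rw [← Spec.map_comp_assoc]
    rfl
  -- the etale neighbourhood as a scheme over `S`
  let V' : Over S := Over.mk (g₀ ≫ V.hom)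
  let g : V' ⟶ V := Over.homMk g₀ rfl
  have hstr : p.left ≫ U₀.left.fromSpecResidueField u ≫ U₀.hom = str := Over.w p
  have hstr' : p'.left ≫ U₀.left.fromSpecResidueField u ≫ U₀.hom = str := Over.w p'
  have hhV : h.left ≫ V.hom = U₀.hom := Over.w h
  let b' : Over.mk str ⟶ V' := Over.homMk (Spec.map (CommRingCat.ofHom (algebraMap L K)) ≫ t) (by
    change (Spec.map (CommRingCat.ofHom (algebraMap L K)) ≫ t) ≫ g₀ ≫ V.hom = str
    rw [Category.assoc, ← Category.assoc t, ← Category.assoc, hkey, Category.assoc, Category.assoc,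
      hhV, hstr])
  have hb'g : b' ≫ g = p ≫ resPt U₀ u ≫ h := by
    apply Over.OverMorphism.ext
    change (Spec.map (CommRingCat.ofHom (algebraMap L K)) ≫ t) ≫ g₀ = _
    rw [Category.assoc, hkey]
    rfl
  -- the two points of the base change
  have sq := IsPullback.of_hasPullback f ((yon S).map g)
  have hinj' := hinj V' g hg₀ _ _ _ sq
  let a := (yon S).map (p ≫ resPt U₀ u) ≫ c
  let a' := (yon S).map (p' ≫ resPt U₀ u) ≫ c
  have ha : a ≫ f = (yon S).map b' ≫ (yon S).map g := by
    rw [Category.assoc, hc, ← Functor.map_comp, ← Functor.map_comp, hb'g, Category.assoc]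
  have ha' : a' ≫ f = (yon S).map b' ≫ (yon S).map g := by
    rw [Category.assoc, hc, ← Functor.map_comp, ← Functor.map_comp, hb'g, Category.assoc, hpp']
  let â := pullback.lift a ((yon S).map b') ha
  let â' := pullback.lift a' ((yon S).map b') ha'
  have hpt : Points.mk (fieldPtOfHom K str â) = Points.mk (fieldPtOfHom K str â') := by
    apply hinj'
    rw [Points.map_mk, Points.map_mk, fieldPtOfHom_map, fieldPtOfHom_map, pullback.lift_snd,
      pullback.lift_snd]
  rw [Points.mk_eq_mk_iff, rel_iff_toHom] at hpt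
  obtain ⟨Ω, _, w, α, β, hαβ⟩ := hpt
  rw [fieldPtOfHom_toHom, fieldPtOfHom_toHom] at hαβ
  change Over.mk w ⟶ Over.mk str at α
  change Over.mk w ⟶ Over.mk str at β
  have e1 : â ≫ pullback.fst f ((yon S).map g) = a := pullback.lift_fst _ _ _
  have e1' : â' ≫ pullback.fst f ((yon S).map g) = a' := pullback.lift_fst _ _ _
  have e2 : â ≫ pullback.snd f ((yon S).map g) = (yon S).map b' := pullback.lift_snd _ _ _
  have e2' : â' ≫ pullback.snd f ((yon S).map g) = (yon S).map b' := pullback.lift_snd _ _ _
  have hαβ' : (yon S).map α ≫ â = (yon S).map β ≫ â' := hαβ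
  have h1 : (yon S).map α ≫ a = (yon S).map β ≫ a' := by
    have := congr($hαβ' ≫ pullback.fst f ((yon S).map g))
    rw [Category.assoc, Category.assoc, e1, e1'] at this
    exact this
  have h2 : α ≫ b' = β ≫ b' := by
    have := congr($hαβ' ≫ pullback.snd f ((yon S).map g))
    rw [Category.assoc, Category.assoc, e2, e2', ← Functor.map_comp, ← Functor.map_comp] at this
    exact (yon S).map_injective this
  -- the two embeddings agree on `L`
  let αc : CommRingCat.of K ⟶ CommRingCat.of Ω := Spec.preimage α.left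
  let βc : CommRingCat.of K ⟶ CommRingCat.of Ω := Spec.preimage β.left
  have hα : Spec.map αc = α.left := Spec.map_preimage _
  have hβ : Spec.map βc = β.left := Spec.map_preimage _
  have hL : CommRingCat.ofHom (algebraMap L K) ≫ αc = CommRingCat.ofHom (algebraMap L K) ≫ βc := by
    apply Spec.map_injective
    rw [Spec.map_comp, Spec.map_comp, hα, hβ, ← cancel_mono t]
    have := congrArg (fun t => t.left) h2
    exact this
  have hLz : ∀ z ∈ L, αc.hom z = βc.hom z := fun z hz => by
    have := congrArg (fun t => t.hom (⟨z, hz⟩ : L)) hL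
    exact this
  obtain ⟨Ω', _, ι, ι₁, hι1, hι2⟩ := exists_amalgam_of_agree_on_sep φ φ' αc.hom βc.hom hLz
  have key1 : Spec.map (CommRingCat.ofHom ι₁) ≫ α.left ≫ p.left =
      Spec.map (CommRingCat.ofHom ι) ≫ p.left := by
    rw [← hα, ← hφ, ← Spec.map_comp, ← Spec.map_comp, ← Spec.map_comp]
    congr 1
    ext e
    exact (hι1 e).symm
  have key2 : Spec.map (CommRingCat.ofHom ι₁) ≫ β.left ≫ p'.left =
      Spec.map (CommRingCat.ofHom ι) ≫ p'.left := by
    rw [← hβ, ← hφ', ← Spec.map_comp, ← Spec.map_comp, ← Spec.map_comp]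
    congr 1
    ext e
    exact (hι2 e).symm
  let w' : Spec (CommRingCat.of Ω') ⟶ S := Spec.map (CommRingCat.ofHom ι) ≫ str
  let j : Over.mk w' ⟶ Over.mk str := Over.homMk (Spec.map (CommRingCat.ofHom ι)) rfl
  have hw : α.left ≫ str = w := Over.w α
  have hR : Spec.map (CommRingCat.ofHom ι₁) ≫ w = Spec.map (CommRingCat.ofHom ι) ≫ str := by
    have e5 : Spec.map (CommRingCat.ofHom ι₁) ≫ α.left ≫
        (p.left ≫ U₀.left.fromSpecResidueField u ≫ U₀.hom) =
        Spec.map (CommRingCat.ofHom ι) ≫ (p.left ≫ U₀.left.fromSpecResidueField u ≫ U₀.hom) := by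
      rw [← Category.assoc α.left, ← Category.assoc, key1, Category.assoc]
    rw [← hw]
    calc Spec.map (CommRingCat.ofHom ι₁) ≫ α.left ≫ str
        = Spec.map (CommRingCat.ofHom ι₁) ≫ α.left ≫
            (p.left ≫ U₀.left.fromSpecResidueField u ≫ U₀.hom) :=
          congrArg (fun s => Spec.map (CommRingCat.ofHom ι₁) ≫ α.left ≫ s) hstr.symm
      _ = Spec.map (CommRingCat.ofHom ι) ≫ (p.left ≫ U₀.left.fromSpecResidueField u ≫ U₀.hom) := e5
      _ = Spec.map (CommRingCat.ofHom ι) ≫ str :=
          congrArg (fun s => Spec.map (CommRingCat.ofHom ι) ≫ s) hstr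
  let j₁ : Over.mk w' ⟶ Over.mk w := Over.homMk (Spec.map (CommRingCat.ofHom ι₁)) hR
  have e3 : j ≫ p = j₁ ≫ α ≫ p := Over.OverMorphism.ext key1.symm
  have e4 : j ≫ p' = j₁ ≫ β ≫ p' := Over.OverMorphism.ext key2.symm
  refine Groth.Agent.H50.eq_of_eq_on_field_ext hX j _ _ ?_
  calc (yon S).map j ≫ (yon S).map (p ≫ resPt U₀ u) ≫ c
      = (yon S).map (j₁ ≫ α ≫ p ≫ resPt U₀ u) ≫ c := by
        rw [← Functor.map_comp_assoc, ← Category.assoc j, e3, Category.assoc, Category.assoc]
    _ = (yon S).map j₁ ≫ (yon S).map α ≫ a := by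
        rw [Functor.map_comp, Functor.map_comp, Category.assoc, Category.assoc]
    _ = (yon S).map j₁ ≫ (yon S).map β ≫ a' := by rw [h1]
    _ = (yon S).map (j₁ ≫ β ≫ p' ≫ resPt U₀ u) ≫ c := by
        rw [Functor.map_comp, Functor.map_comp, Category.assoc, Category.assoc]
    _ = (yon S).map j ≫ (yon S).map (p' ≫ resPt U₀ u) ≫ c := by
        rw [← Functor.map_comp_assoc, ← Category.assoc j, e4, Category.assoc, Category.assoc]

end Groth.Agent.H53.UnivInj
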