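import Groth.Agent.H53.UnivInj.Core
import Groth.Agent.H67.NeronInj
import Groth.Agent.H50.UnivInj
import Groth.Agent.H50.LocPBase

/-! Universal injectivity from etale-local injectivity: reduction to the core argument. -/

set_option autoImplicit false
universe u

open CategoryTheory CategoryTheory.Limits AlgebraicGeometry Opposite
open AlgSp

namespace Groth.Agent.H53.UnivInj

variable {S : Scheme.{u}}

/-- Every nonempty fibre of a morphism locally of finite type contains a point whose residue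
field is finite over the residue field of its image. -/
theorem exists_finite_point_fibre {X Y : Scheme.{u}} (f : X ⟶ Y) [LocallyOfFiniteType f]
    (x₀ : X) : ∃ x, f x = f x₀ ∧ (f.residueFieldMap x).hom.Finite := by
  have hne' : (Set.univ : Set (f.fiber (f x₀))).Nonempty := by
    have : x₀ ∈ Set.range (f.fiberι (f x₀)) := by rw [Scheme.Hom.range_fiberι]; rfl
    obtain ⟨w, hw⟩ := this
    exact ⟨w, trivial⟩
  obtain ⟨w, -, hwcl⟩ := nonempty_inter_closedPoints hne' isClosed_univ.isLocallyClosed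
  have hw : f (f.fiberι (f x₀) w) = f x₀ := by
    have : f.fiberι (f x₀) w ∈ Set.range (f.fiberι (f x₀)) := ⟨w, rfl⟩
    rw [Scheme.Hom.range_fiberι] at this
    exact this
  exact ⟨f.fiberι (f x₀) w, hw, Groth.Agent.H67.NeronInj.finite_of_isClosed f (f x₀) _ hw w rfl
    (mem_closedPoints_iff.mp hwcl)⟩

/-- The main lemma: over a scheme base, etale-local injectivity on points implies injectivity on
field-valued points. -/
theorem field_injective_of_scheme_base {X : Sp S} (hX : IsAlgSpace X) {V : Over S}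
    (f : X ⟶ (yon S).obj V) (hft : LocP @LocallyOfFiniteType f)
    (hinj : ∀ (V' : Over S) (g : V' ⟶ V), Etale g.left → ∀ (P : Sp S) (fst : P ⟶ X)
      (snd : P ⟶ (yon S).obj V'), IsPullback fst snd f ((yon S).map g) →
        Function.Injective (Points.map snd))
    (K : Type u) [Field K] (str : Spec (.of K) ⟶ S) (a a' : (yon S).obj (Over.mk str) ⟶ X)
    (haa' : a ≫ f = a' ≫ f) : a = a' := by
  obtain ⟨U₀, c, hce, hcs⟩ := hX.atlas
  obtain ⟨h, hh⟩ := (yon S).map_surjective (c ≫ f)
  have hlft : LocallyOfFiniteType h.left :=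
    hft c (𝟙 _) h hce (repWith_id _ V) (by rw [hh, Category.comp_id])
  -- `f` is injective on points
  have hfinj : Function.Injective (Points.map f) := by
    refine hinj V (𝟙 V) (by change Etale (𝟙 V.left); infer_instance) X (𝟙 X) f ?_
    exact IsPullback.of_horiz_isIso ⟨by rw [CategoryTheory.Functor.map_id, Category.id_comp, Category.comp_id]⟩
  have hpts : Points.mk (fieldPtOfHom K str a) = Points.mk (fieldPtOfHom K str a') := by
    apply hfinj
    rw [Points.map_mk, Points.map_mk, fieldPtOfHom_map, fieldPtOfHom_map, haa']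
  -- a point of the chart with finite residue field extension
  obtain ⟨u₀, hu₀⟩ := exists_ofPt_eq_of_repWith_surjective c hcs (Points.mk (fieldPtOfHom K str a))
  obtain ⟨u, hu1, hu2⟩ := exists_finite_point_fibre h.left u₀
  have hu : Points.ofPt c u = Points.mk (fieldPtOfHom K str a) := by
    rw [← hu₀]
    apply hfinj
    rw [Points.map_ofPt, Points.map_ofPt, ← hh, ← Category.comp_id ((yon S).map h),
      ofPt_yon_map_comp, ofPt_yon_map_comp, hu1]
  -- lift `a` through `u` after a field extension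
  have hrel : Points.mk (FieldPt.ofPt c u) = Points.mk (fieldPtOfHom K str a) := hu
  rw [Points.mk_eq_mk_iff, rel_iff_toHom] at hrel
  obtain ⟨Ω₁, _, w₁, α₁, β₁, h₁⟩ := hrel
  rw [FieldPt.toHom_ofPt, fieldPtOfHom_toHom] at h₁
  change Over.mk w₁ ⟶ Over.mk (U₀.left.fromSpecResidueField u ≫ U₀.hom) at α₁
  change Over.mk w₁ ⟶ Over.mk str at β₁
  have h₁' : (yon S).map α₁ ≫ (yon S).map (resPt U₀ u) ≫ c = (yon S).map β₁ ≫ a := h₁
  -- lift `a'` through `u` after a further field extension
  have hrel' : Points.mk (FieldPt.ofPt c u) =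
      Points.mk (fieldPtOfHom Ω₁ w₁ ((yon S).map β₁ ≫ a')) := by
    have e := mk_fieldPtOfHom_comp (fieldPtOfHom K str a') Ω₁ w₁ β₁
    rw [fieldPtOfHom_toHom] at e
    exact (hu.trans hpts).trans e.symm
  rw [Points.mk_eq_mk_iff, rel_iff_toHom] at hrel'
  obtain ⟨Ω₂, _, w₂, α₂, β₂, h₂⟩ := hrel'
  rw [FieldPt.toHom_ofPt, fieldPtOfHom_toHom] at h₂
  change Over.mk w₂ ⟶ Over.mk (U₀.left.fromSpecResidueField u ≫ U₀.hom) at α₂
  change Over.mk w₂ ⟶ Over.mk w₁ at β₂
  have h₂' : (yon S).map α₂ ≫ (yon S).map (resPt U₀ u) ≫ c =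
      (yon S).map β₂ ≫ (yon S).map β₁ ≫ a' := h₂
  -- apply the core argument
  have e1 : (yon S).map ((β₂ ≫ α₁) ≫ resPt U₀ u) ≫ c = (yon S).map (β₂ ≫ β₁) ≫ a := by
    rw [Functor.map_comp, Functor.map_comp, Functor.map_comp, Category.assoc, Category.assoc,
      h₁', Category.assoc]
  have e2 : (yon S).map (α₂ ≫ resPt U₀ u) ≫ c = (yon S).map (β₂ ≫ β₁) ≫ a' := by
    rw [Functor.map_comp, Functor.map_comp, Category.assoc, h₂', Category.assoc]
  have hpp' : (β₂ ≫ α₁) ≫ resPt U₀ u ≫ h = α₂ ≫ resPt U₀ u ≫ h := by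
    apply (yon S).map_injective
    rw [← Category.assoc, ← Category.assoc α₂, Functor.map_comp,
      Functor.map_comp (yon S) (α₂ ≫ resPt U₀ u) h, hh,
      ← Category.assoc, ← Category.assoc, e1, e2, Category.assoc, Category.assoc, haa']
  have hcore := core hX f hinj c h hh.symm u hu2 w₂ (β₂ ≫ α₁) α₂ hpp'
  rw [e1, e2] at hcore
  exact Groth.Agent.H50.eq_of_eq_on_field_ext hX (β₂ ≫ β₁) a a' hcore

/-- A morphism of algebraic spaces which is locally of finite type and injective on points after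
every etale base change is universally injective. -/
theorem isUnivInjectiveMor_of_etale_local {X Y : Sp S} (hX : IsAlgSpace X) (hY : IsAlgSpace Y)
    (f : X ⟶ Y) (hft : LocP @LocallyOfFiniteType f)
    (hinj : ∀ (V : Sp S), IsAlgSpace V → ∀ (g : V ⟶ Y), IsEtaleMor g →
      ∀ (P : Sp S) (fst : P ⟶ X) (snd : P ⟶ V), IsPullback fst snd f g →
        Function.Injective (Points.map snd)) :
    IsUnivInjectiveMor f := by
  refine Groth.Agent.H50.isUnivInjectiveMor_of_field_injective f fun K _ str a a' haa' => ?_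
  have haa : a ≫ f = a' ≫ f := haa'
  obtain ⟨V₀, c₀, hce, hcs⟩ := hY.atlas
  obtain ⟨v₀, hv₀⟩ := exists_ofPt_eq_of_repWith_surjective c₀ hcs
    (Points.mk (fieldPtOfHom K str (a ≫ f)))
  have hrel : Points.mk (FieldPt.ofPt c₀ v₀) = Points.mk (fieldPtOfHom K str (a ≫ f)) := hv₀
  rw [Points.mk_eq_mk_iff, rel_iff_toHom] at hrel
  obtain ⟨Ω, _, w, α, β, h₁⟩ := hrel
  rw [FieldPt.toHom_ofPt, fieldPtOfHom_toHom] at h₁
  change Over.mk w ⟶ Over.mk (V₀.left.fromSpecResidueField v₀ ≫ V₀.hom) at α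
  change Over.mk w ⟶ Over.mk str at β
  have h₁' : (yon S).map (α ≫ resPt V₀ v₀) ≫ c₀ = ((yon S).map β ≫ a) ≫ f := by
    rw [Functor.map_comp, Category.assoc, Category.assoc]
    exact h₁
  have h₁'' : (yon S).map (α ≫ resPt V₀ v₀) ≫ c₀ = ((yon S).map β ≫ a') ≫ f := by
    rw [h₁', Category.assoc, Category.assoc, haa]
  have sq := IsPullback.of_hasPullback f c₀
  have hX₀ : IsAlgSpace (pullback f c₀) := Groth.Agent.H50.isAlgSpace_pullback_yon hX hY f c₀
  have hft₀ : LocP @LocallyOfFiniteType (pullback.snd f c₀) :=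
    Groth.Agent.H50.goodClass_lft.locP_of_isPullback hX hY (IsAlgSpace.yon_obj V₀) f c₀
      (pullback.fst f c₀) (pullback.snd f c₀) sq hft
  have hinj₀ : ∀ (V' : Over S) (g : V' ⟶ V₀), Etale g.left → ∀ (P : Sp S)
      (fst : P ⟶ pullback f c₀) (snd : P ⟶ (yon S).obj V'),
      IsPullback fst snd (pullback.snd f c₀) ((yon S).map g) →
        Function.Injective (Points.map snd) := by
    intro V' g hg P fst snd sq'
    refine hinj ((yon S).obj V') (IsAlgSpace.yon_obj V') ((yon S).map g ≫ c₀) ?_ P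
      (fst ≫ pullback.fst f c₀) snd (sq'.paste_horiz sq)
    intro U φ hφ
    exact (RepWith @Etale).comp_mem _ _ hφ
      ((RepWith @Etale).comp_mem _ _ ((repWith_yon_map_iff _ g).2 hg) hce)
  have key := field_injective_of_scheme_base hX₀ (pullback.snd f c₀) hft₀ hinj₀ Ω w
    (pullback.lift ((yon S).map β ≫ a) ((yon S).map (α ≫ resPt V₀ v₀)) h₁'.symm)
    (pullback.lift ((yon S).map β ≫ a') ((yon S).map (α ≫ resPt V₀ v₀)) h₁''.symm)
    (by rw [pullback.lift_snd, pullback.lift_snd])
  have key' := congr($key ≫ pullback.fst f c₀)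
  rw [pullback.lift_fst, pullback.lift_fst] at key'
  exact Groth.Agent.H50.eq_of_eq_on_field_ext hX β a a' key'

end Groth.Agent.H53.UnivInj
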