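import Mathlib
import Groth.Prelude.Def_AlgSp2

/-! Pure algebra for universal injectivity: two pairs of embeddings of a finite field extension
which agree after embeddings that coincide on the separable parts can be amalgamated. -/

set_option autoImplicit false
universe u

open TensorProduct

namespace Groth.Agent.H53.UnivInj

variable {k E K Ω : Type u} [Field k] [Field E] [Field K] [Field Ω] [Algebra k E]
  [Module.Finite k E] [Algebra k K]

/-- Every element of `E ⊗[k] E` has a `q^n`-th power in the image of `Es ⊗[k] Es`, for `Es` the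
separable closure of `k` in `E` and `q` the exponential characteristic. -/
theorem exists_pow_mem_range (q : ℕ) [ExpChar k q] (x : E ⊗[k] E) :
    ∃ n : ℕ, x ^ q ^ n ∈ (Algebra.TensorProduct.map (separableClosure k E).val
      (separableClosure k E).val).range := by
  have : Algebra.IsAlgebraic k E := Algebra.IsAlgebraic.of_finite k E
  have hpi : IsPurelyInseparable (separableClosure k E) E := inferInstance
  have : ExpChar (E ⊗[k] E) q := expChar_of_injective_algebraMap (algebraMap k (E ⊗[k] E)).injective q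
  have : ExpChar (separableClosure k E) q :=
    expChar_of_injective_algebraMap (algebraMap k (separableClosure k E)).injective q
  set T := (Algebra.TensorProduct.map (separableClosure k E).val
      (separableClosure k E).val).range with hT
  have hmono : ∀ (y : E ⊗[k] E) (n m : ℕ), y ^ q ^ n ∈ T → y ^ q ^ (n + m) ∈ T := by
    intro y n m hy
    rw [pow_add, pow_mul]
    exact T.pow_mem hy _
  induction x using TensorProduct.induction_on with
  | zero => exact ⟨0, by simp⟩
  | tmul e e' =>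
    obtain ⟨n₁, y₁, hy₁⟩ := IsPurelyInseparable.pow_mem (separableClosure k E) q e
    obtain ⟨n₂, y₂, hy₂⟩ := IsPurelyInseparable.pow_mem (separableClosure k E) q e'
    refine ⟨n₁ + n₂, ?_⟩
    rw [Algebra.TensorProduct.tmul_pow]
    have h1 : e ^ q ^ (n₁ + n₂) = algebraMap (separableClosure k E) E (y₁ ^ q ^ n₂) := by
      rw [pow_add, pow_mul, map_pow, hy₁]
    have h2 : e' ^ q ^ (n₁ + n₂) = algebraMap (separableClosure k E) E (y₂ ^ q ^ n₁) := by
      rw [add_comm, pow_add, pow_mul, map_pow, hy₂]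
    rw [h1, h2]
    exact ⟨(y₁ ^ q ^ n₂) ⊗ₜ (y₂ ^ q ^ n₁), rfl⟩
  | add x y hx hy =>
    obtain ⟨n₁, h₁⟩ := hx
    obtain ⟨n₂, h₂⟩ := hy
    refine ⟨n₁ + n₂, ?_⟩
    rw [add_pow_expChar_pow]
    refine T.add_mem (hmono x n₁ n₂ h₁) ?_
    rw [add_comm n₁ n₂]
    exact hmono y n₂ n₁ h₂

/-- The amalgamation statement. -/
theorem exists_amalgam_of_agree_on_sep (φ φ' : E →ₐ[k] K) (α β : K →+* Ω)
    (hαβ : ∀ z ∈ (separableClosure k E).map φ ⊔ (separableClosure k E).map φ', α z = β z) :
    ∃ (Ω' : Type u) (_ : Field Ω') (ι : K →+* Ω') (ι₁ : Ω →+* Ω'),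
      (∀ e, ι (φ e) = ι₁ (α (φ e))) ∧ (∀ e, ι (φ' e) = ι₁ (β (φ' e))) := by
  classical
  set L : IntermediateField k K := (separableClosure k E).map φ ⊔ (separableClosure k E).map φ'
    with hL
  let _ : Algebra k Ω := (α.comp (algebraMap k K)).toAlgebra
  have halg : ∀ c : k, algebraMap k Ω c = α (algebraMap k K c) := fun c => rfl
  have hαβk : ∀ c : k, α (algebraMap k K c) = β (algebraMap k K c) := fun c =>
    hαβ _ (L.algebraMap_mem c)
  let ψ : E →ₐ[k] Ω := { (α.comp φ.toRingHom) with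
    commutes' := fun c => by
      change α (φ (algebraMap k E c)) = _
      rw [φ.commutes, halg] }
  let ψ' : E →ₐ[k] Ω := { (β.comp φ'.toRingHom) with
    commutes' := fun c => by
      change β (φ' (algebraMap k E c)) = _
      rw [φ'.commutes, halg, hαβk] }
  let μ : E ⊗[k] E →ₐ[k] K := Algebra.TensorProduct.productMap φ φ'
  let μ₁ : E ⊗[k] E →ₐ[k] Ω := Algebra.TensorProduct.productMap ψ ψ'
  let ν : (separableClosure k E) ⊗[k] (separableClosure k E) →ₐ[k] E ⊗[k] E :=
    Algebra.TensorProduct.map (separableClosure k E).val (separableClosure k E).val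
  -- on the separable part
  have hsep : ∀ y, μ₁ (ν y) = α (μ (ν y)) := by
    intro y
    induction y using TensorProduct.induction_on with
    | zero => simp
    | tmul e e' =>
      have h1 : φ e ∈ L := (le_sup_left : _ ≤ L) ⟨e, e.2, rfl⟩
      have h2 : φ' e' ∈ L := (le_sup_right : _ ≤ L) ⟨e', e'.2, rfl⟩
      change μ₁ ((e : E) ⊗ₜ (e' : E)) = α (μ ((e : E) ⊗ₜ (e' : E)))
      rw [Algebra.TensorProduct.productMap_apply_tmul, Algebra.TensorProduct.productMap_apply_tmul,
        map_mul]
      change α (φ e) * β (φ' e') = _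
      rw [hαβ _ h2]
    | add x y hx hy => rw [map_add, map_add, map_add, map_add, hx, hy]
  -- kernels agree
  obtain ⟨q, hq⟩ := ExpChar.exists k
  have hq0 : ∀ n : ℕ, q ^ n ≠ 0 := fun n => pow_ne_zero n (expChar_pos k q).ne'
  have hker : ∀ x : E ⊗[k] E, μ x = 0 ↔ μ₁ x = 0 := by
    intro x
    obtain ⟨n, y, hy⟩ := exists_pow_mem_range q x
    have e1 : μ x = 0 ↔ μ (x ^ q ^ n) = 0 := by rw [map_pow, pow_eq_zero_iff (hq0 n)]
    have e2 : μ₁ x = 0 ↔ μ₁ (x ^ q ^ n) = 0 := by rw [map_pow, pow_eq_zero_iff (hq0 n)]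
    rw [e1, e2, ← hy]
    change μ (ν y) = 0 ↔ μ₁ (ν y) = 0
    rw [hsep, map_eq_zero_iff α α.injective]
  -- the residue field at the common kernel
  let w : Ideal (E ⊗[k] E) := RingHom.ker μ.toRingHom
  have hwp : w.IsPrime := RingHom.ker_isPrime μ.toRingHom
  have : IsArtinianRing (E ⊗[k] E) := IsArtinianRing.of_finite k _
  have hwm : w.IsMaximal := IsArtinianRing.isMaximal_of_isPrime w
  let _ : Field ((E ⊗[k] E) ⧸ w) := Ideal.Quotient.field w
  let μb : (E ⊗[k] E) ⧸ w →+* K := Ideal.Quotient.lift w μ.toRingHom (fun x hx => hx)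
  let μb₁ : (E ⊗[k] E) ⧸ w →+* Ω := Ideal.Quotient.lift w μ₁.toRingHom
    (fun x hx => (hker x).1 hx)
  obtain ⟨Ω', hΩ', ι, ι₁, hι⟩ := AlgSp.FieldPt.exists_amalgamation μb μb₁
  refine ⟨Ω', hΩ', ι, ι₁, fun e => ?_, fun e => ?_⟩
  · have := congr($hι (Ideal.Quotient.mk w (e ⊗ₜ 1)))
    simp only [RingHom.comp_apply, μb, μb₁, Ideal.Quotient.lift_mk] at this
    change ι (μ (e ⊗ₜ 1)) = ι₁ (μ₁ (e ⊗ₜ 1)) at this
    rw [Algebra.TensorProduct.productMap_apply_tmul, Algebra.TensorProduct.productMap_apply_tmul,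
      map_one, map_one, mul_one, mul_one] at this
    exact this
  · have := congr($hι (Ideal.Quotient.mk w (1 ⊗ₜ e)))
    simp only [RingHom.comp_apply, μb, μb₁, Ideal.Quotient.lift_mk] at this
    change ι (μ (1 ⊗ₜ e)) = ι₁ (μ₁ (1 ⊗ₜ e)) at this
    rw [Algebra.TensorProduct.productMap_apply_tmul, Algebra.TensorProduct.productMap_apply_tmul,
      map_one, map_one, one_mul, one_mul] at this
    exact this

end Groth.Agent.H53.UnivInj
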